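import Cfsg.Agent.Lib.HallHigman.Solvable
import Cfsg.Agent.Lib.Fusion.SolvableSeries
import Cfsg.Agent.Lib.Hall.Basic

/-!
# Elementary facts about `p`-solvability
-/

set_option autoImplicit false

namespace Cfsg.Agent.Lib.PairSolvable

universe u

/-- A `p`-group or `p'`-group is `p`-solvable. -/
theorem isPSolvable_of_card {G : Type u} [Group G] [Finite G] {p : ℕ}
    (h : (∃ m, Nat.card G = p ^ m) ∨ (Nat.card G).Coprime p) : Cfsg.IsPSolvable p G := by
  refine HallHigman.isPSolvable_of_quotient (⊤ : Subgroup G) (by rwa [Subgroup.card_top]) ?_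
  haveI : Subsingleton (G ⧸ (⊤ : Subgroup G)) := QuotientGroup.subsingleton_quotient_top
  exact ⟨0, fun _ => ⊥, rfl, Subsingleton.elim _ _, monotone_const, fun _ => inferInstance,
    fun i => i.elim0⟩

end Cfsg.Agent.Lib.PairSolvable
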