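import Cfsg.Agent.Lib.PairSolvable.Values
import Cfsg.Agent.Lib.PairSolvable.Pair
import Cfsg.Agent.Lib.CharTools.ClassMult

/-!
# The character identity forced by solvable pairs
-/

set_option autoImplicit false
set_option linter.unusedSectionVars false
set_option linter.style.haveILetI false

namespace Cfsg.Agent.Lib.PairSolvable

open Cfsg Cfsg.Agent.Lib Cfsg.Agent.Lib.Block
open scoped ComplexConjugate

universe u

variable {p : ℕ} [Fact p.Prime] {G : Type u} [Group G] [Finite G]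

open scoped Classical in
/-- The exponents `k` with `x ^ k` conjugate to `x`. -/
noncomputable def expSet (p : ℕ) (x : G) : Finset ℕ :=
  (Finset.Ico 1 p).filter fun k => IsConj (x ^ k) x

theorem mem_expSet {x : G} {k : ℕ} :
    k ∈ expSet p x ↔ k ∈ Finset.Ico 1 p ∧ IsConj (x ^ k) x := by
  classical
  rw [expSet, Finset.mem_filter]

open scoped Classical in
/-- The exponents `l` for which `x ^ l` is conjugate to a fixed non-trivial power. -/
theorem card_pow_isConj {x : G} (hx : orderOf x = p) {i : ℕ} (hi : ¬ p ∣ i) :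
    ((Finset.Ico 1 p).filter fun l => IsConj (x ^ i) (x ^ l)).card = (expSet p x).card := by
  have hp : p.Prime := Fact.out
  obtain ⟨i', hi'⟩ : ∃ i' : ℕ, ((i * i' : ℕ) : ZMod p) = 1 := by
    refine ⟨((i : ZMod p)⁻¹).val, ?_⟩
    rw [Nat.cast_mul, ZMod.natCast_zmod_val]
    exact mul_inv_cancel₀ fun h => hi ((ZMod.natCast_eq_zero_iff i p).1 h)
  have hmod : ∀ n : ℕ, x ^ (n % p) = x ^ n := fun n => by rw [← hx, pow_mod_orderOf]
  have hone : ∀ n : ℕ, x ^ (n * (i * i')) = x ^ n := fun n => by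
    rw [pow_eq_pow_iff_modEq, hx, ← ZMod.natCast_eq_natCast_iff, Nat.cast_mul, hi', mul_one]
  have hi'0 : ¬ p ∣ i' := fun h => by
    have h0 : ((i * i' : ℕ) : ZMod p) = 0 := (ZMod.natCast_eq_zero_iff _ p).2 (dvd_mul_of_dvd_right h i)
    rw [hi'] at h0
    exact one_ne_zero h0
  have hmem : ∀ n : ℕ, ¬ p ∣ n → n % p ∈ Finset.Ico 1 p := fun n hn => Finset.mem_Ico.2
    ⟨Nat.pos_of_ne_zero fun h => hn (Nat.dvd_of_mod_eq_zero h), Nat.mod_lt _ hp.pos⟩
  refine Finset.card_nbij' (fun l => l * i' % p) (fun a => a * i % p) ?_ ?_ ?_ ?_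
  · intro l hl
    obtain ⟨hlI, hc⟩ := Finset.mem_filter.1 hl
    obtain ⟨hl1, hlp⟩ := Finset.mem_Ico.1 hlI
    refine mem_expSet.2 ⟨hmem _ fun h => (hp.dvd_mul.1 h).elim
      (fun h => absurd (Nat.le_of_dvd hl1 h) (not_le.2 hlp)) hi'0, ?_⟩
    rw [hmod]
    have h := hc.pow i'
    rw [← pow_mul, ← pow_mul, show i * i' = 1 * (i * i') by ring, hone, pow_one] at h
    exact h.symm
  · intro a ha
    obtain ⟨haI, hc⟩ := mem_expSet.1 ha
    obtain ⟨ha1, hap⟩ := Finset.mem_Ico.1 haI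
    refine Finset.mem_filter.2 ⟨hmem _ fun h => (hp.dvd_mul.1 h).elim
      (fun h => absurd (Nat.le_of_dvd ha1 h) (not_le.2 hap)) hi, ?_⟩
    rw [hmod, pow_mul]
    exact (hc.pow i).symm
  · intro l hl
    obtain ⟨hl1, hlp⟩ := Finset.mem_Ico.1 (Finset.mem_filter.1 hl).1
    apply pow_injOn_Iio_orderOf (x := x) (show l * i' % p * i % p < orderOf x by rw [hx]; exact Nat.mod_lt _ hp.pos)
      (show l < orderOf x by rw [hx]; exact hlp)
    show x ^ (l * i' % p * i % p) = x ^ l
    rw [hmod, pow_mul, hmod, ← pow_mul, show l * i' * i = l * (i * i') by ring, hone]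
  · intro a ha
    obtain ⟨ha1, hap⟩ := Finset.mem_Ico.1 (mem_expSet.1 ha).1
    apply pow_injOn_Iio_orderOf (x := x) (show a * i % p * i' % p < orderOf x by rw [hx]; exact Nat.mod_lt _ hp.pos)
      (show a < orderOf x by rw [hx]; exact hap)
    show x ^ (a * i % p * i' % p) = x ^ a
    rw [hmod, pow_mul, hmod, ← pow_mul, show a * i * i' = a * (i * i') by ring, hone]

/-- The products of a fixed element with a class. -/
theorem sum_class_mul [Fintype G] {χ : G → ℂ} (hχ : IsIrrCharacter G χ) (a b : G) :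
    ∑ y : G, CharTools.classInd b y * χ (a * y) =
      ((Subgroup.centralizer ({b} : Set G)).index : ℂ) * (χ a * χ b) / χ 1 := by
  have h := CharTools.sum_classes_mul hχ a b
  have hg : IsClassFunction G fun c => ∑ y : G, CharTools.classInd b y * χ (c * y) := by
    intro c g
    show ∑ y : G, CharTools.classInd b y * χ (g * c * g⁻¹ * y) = _
    rw [← (MulAut.conj g).toEquiv.sum_comp]
    refine Finset.sum_congr rfl fun y _ => ?_
    simp only [MulEquiv.toEquiv_eq_coe, MulEquiv.coe_toEquiv, MulAut.conj_apply,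
      CharTools.classInd_conj]
    congr 1
    rw [← Char.isClassFunction_of_isIrr hχ (c * y) g]
    congr 1
    group
  simp only [mul_assoc (CharTools.classInd a _), ← Finset.mul_sum] at h
  rw [CharTools.sum_classInd_mul hg a, mul_assoc, mul_div_assoc] at h
  exact mul_left_cancel₀ (Nat.cast_ne_zero.2 Subgroup.index_ne_zero_of_finite) h

variable {M : Ideal AlgInt} [M.IsPrime] {P : Sylow p G}

open scoped Classical in
/-- The identity for each power of `x`. -/
theorem identity [Fintype G] (hM : IsPModular p M) (hP : IsCyclic (P : Subgroup G)) {x : G}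
    (hxP : x ∈ (P : Subgroup G)) (hx : orderOf x = p)
    (hpair : ∀ y : G, orderOf y = p → IsPSolvable p (Subgroup.closure ({x, y} : Set G)))
    {l : ℕ} (hl : l ∈ Finset.Ico 1 p) :
    ((expSet p x).card : ℂ) * ∑ χ : IrrCharacter G, (if χ ∈ principalBlock M G then
        (χ : G → ℂ) x⁻¹ * (χ : G → ℂ) x * conj ((χ : G → ℂ) (x ^ l)) / (χ : G → ℂ) 1 else 0) =
      (Nat.card (P : Subgroup G) : ℂ) *
        (((expSet p x).filter fun k => k ≠ 1 ∧ IsConj (x ^ (k - 1)) (x ^ l)).card : ℂ) := by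
  have hp : p.Prime := Fact.out
  set q : ℂ := (Nat.card (P : Subgroup G) : ℂ) with hq
  set A := expSet p x with hA
  have hne1 : ∀ i, 1 ≤ i → i < p → x ^ i ≠ 1 := fun i h1 h2 h => absurd
    (Nat.le_of_dvd h1 (hx ▸ orderOf_dvd_of_pow_eq_one h)) (not_le.2 h2)
  set C := Finset.univ.filter fun y : G => IsConj y x with hC
  have hord : ∀ y ∈ C, orderOf y = p := fun y hy =>
    hx ▸ orderOf_of_isConj (Finset.mem_filter.1 hy).2.symm
  choose kf hkI hkc hkreg hkp using fun (y : G) (hy : y ∈ C) =>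
    pair_structure hP hx (hord y hy) (hpair y (hord y hy))
  let fib : ℕ → Finset G := fun k => C.filter fun y => ¬ p ∣ orderOf ((x ^ k)⁻¹ * y)
  have h1I : 1 ∈ Finset.Ico 1 p := Finset.mem_Ico.2 ⟨le_rfl, hp.one_lt⟩
  have hkA : ∀ y (hy : y ∈ C), kf y hy ∈ A := fun y hy => mem_expSet.2
    ⟨hkI y hy, (hkc y hy).trans (Finset.mem_filter.1 hy).2⟩
  have hfib : ∀ k ∈ A, ∀ y (hy : y ∈ C), (y ∈ fib k ↔ k = kf y hy) := fun k hk y hy => by
    simp only [fib, Finset.mem_filter, hy, true_and]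
    exact hkreg y hy k (mem_expSet.1 hk).1
  have hcard : ∀ k ∈ A, (fib k).card = (fib 1).card := by
    intro k hk
    obtain ⟨c, hc⟩ := isConj_iff.1 (mem_expSet.1 hk).2.symm
    refine (Finset.card_nbij' (fun y => c * y * c⁻¹) (fun y => c⁻¹ * y * c) ?_ ?_ ?_ ?_).symm
    · intro y hy
      simp only [fib, hC, Finset.mem_coe, Finset.mem_filter, Finset.mem_univ, true_and, pow_one] at hy ⊢
      refine ⟨((isConj_iff.2 ⟨c, rfl⟩ : IsConj y (c * y * c⁻¹)).symm).trans hy.1, ?_⟩
      rw [← hc, show (c * x * c⁻¹)⁻¹ * (c * y * c⁻¹) = c * (x⁻¹ * y) * c⁻¹ by group, orderOf_conj_eq]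
      exact hy.2
    · intro y hy
      simp only [fib, hC, Finset.mem_coe, Finset.mem_filter, Finset.mem_univ, true_and, pow_one] at hy ⊢
      refine ⟨((isConj_iff.2 ⟨c⁻¹, by group⟩ : IsConj y (c⁻¹ * y * c)).symm).trans hy.1, ?_⟩
      rw [show x⁻¹ * (c⁻¹ * y * c) = c⁻¹ * ((c * x * c⁻¹)⁻¹ * y) * c⁻¹⁻¹ by group, orderOf_conj_eq, hc]
      exact hy.2
    · intro y _; group
    · intro y _; group
  let f : G → ℂ := fun w => ∑ χ : IrrCharacter G, (if χ ∈ principalBlock M G then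
    (χ : G → ℂ) w * conj ((χ : G → ℂ) (x ^ l)) else 0)
  obtain ⟨hl1, hlp⟩ := Finset.mem_Ico.1 hl
  have hxl : p ∣ orderOf (x ^ l) := by
    have h : orderOf (x ^ l) = p := ((Nat.dvd_prime hp).1 (hx ▸ orderOf_pow_dvd l)).resolve_left
      fun h => hne1 l hl1 hlp (orderOf_eq_one_iff.1 h)
    rw [h]
  have hf : ∀ k ∈ A, ∀ y ∈ fib k, f (x⁻¹ * y) =
      if k ≠ 1 ∧ IsConj (x ^ (k - 1)) (x ^ l) then q else 0 := by
    intro k hk y hy
    have hyC : y ∈ C := (Finset.mem_filter.1 hy).1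
    have hkk : k = kf y hyC := (hfib k hk y hyC).1 hy
    by_cases hk1 : k = 1
    · rw [if_neg fun h => h.1 hk1]
      refine weak_orthogonality hM isPBlock_principalBlock ?_ hxl
      have := (Finset.mem_filter.1 hy).2
      rwa [hk1, pow_one] at this
    · obtain ⟨z, hz, hzc⟩ := hkp y hyC (fun h => hk1 (hkk.trans h))
      rw [← hkk] at hzc
      obtain ⟨c, hc⟩ := isConj_iff.1 hzc
      obtain ⟨hk1', hkp'⟩ := Finset.mem_Ico.1 (mem_expSet.1 hk).1
      have hz' := IsPPart.conj hz c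
      rw [hc] at hz'
      obtain ⟨r, hr, hcm, -, hrr⟩ := hz'
      have hval : ∀ χ ∈ principalBlock M G,
          (χ : G → ℂ) (x⁻¹ * y) = (χ : G → ℂ) (x ^ (k - 1)) := fun χ hχ => by
        rw [← CharTools.conj_apply_eq χ.2 (x⁻¹ * y) c, ← hr]
        exact apply_section hM hP (pow_mem hxP _) (hne1 _ (by omega) (by omega)) hcm hrr hχ
      show ∑ χ : IrrCharacter G, _ = _
      rw [Finset.sum_congr rfl (g := fun χ : IrrCharacter G => if χ ∈ principalBlock M G then
        (χ : G → ℂ) (x ^ (k - 1)) * conj ((χ : G → ℂ) (x ^ l)) else 0) fun χ _ => by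
          split_ifs with hχ
          · rw [hval χ hχ]
          · rfl,
        sum_principal_sylow hM hP (pow_mem hxP _) (hne1 _ (by omega) (by omega)) (pow_mem hxP _)]
      by_cases h : IsConj (x ^ (k - 1)) (x ^ l)
      · rw [if_pos h, if_pos ⟨hk1, h⟩]
      · rw [if_neg h, if_neg fun h' => h h'.2]
  have hmaps : ∀ y ∈ C, ∃ k ∈ A, y ∈ fib k := fun y hy => ⟨kf y hy, hkA y hy,
    (hfib _ (hkA y hy) y hy).2 rfl⟩
  have hCeq : C = A.biUnion fib := by
    refine Finset.Subset.antisymm (fun y hy => ?_) fun y hy => ?_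
    · exact Finset.mem_biUnion.2 (hmaps y hy)
    · obtain ⟨k, -, hk⟩ := Finset.mem_biUnion.1 hy
      exact (Finset.mem_filter.1 hk).1
  have hdisj : (A : Set ℕ).PairwiseDisjoint fib := by
    intro i hi j hj hij
    refine Finset.disjoint_left.2 fun y h1 h2 => hij ?_
    have hyC : y ∈ C := (Finset.mem_filter.1 h1).1
    rw [(hfib i hi y hyC).1 h1, (hfib j hj y hyC).1 h2]
  have hCcard : C.card = A.card * (fib 1).card := by
    rw [hCeq, Finset.card_biUnion hdisj, Finset.sum_congr rfl hcard, Finset.sum_const, smul_eq_mul]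
  have hCpos : 0 < C.card := Finset.card_pos.2 ⟨x, Finset.mem_filter.2 ⟨Finset.mem_univ x, IsConj.refl x⟩⟩
  have hsum : ∑ y ∈ C, f (x⁻¹ * y) = q * ((fib 1).card : ℂ) *
      ((A.filter fun k => k ≠ 1 ∧ IsConj (x ^ (k - 1)) (x ^ l)).card : ℂ) := by
    rw [hCeq, Finset.sum_biUnion hdisj, Finset.sum_congr rfl fun k hk => show
      ∑ y ∈ fib k, f (x⁻¹ * y) =
        if k ≠ 1 ∧ IsConj (x ^ (k - 1)) (x ^ l) then q * ((fib 1).card : ℂ) else 0 by
      rw [Finset.sum_congr rfl (hf k hk), Finset.sum_const, hcard k hk, nsmul_eq_mul]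
      split_ifs <;> ring, ← Finset.sum_filter, Finset.sum_const, nsmul_eq_mul]
    ring
  have hsum' : ∑ y ∈ C, f (x⁻¹ * y) = (C.card : ℂ) * ∑ χ : IrrCharacter G,
      (if χ ∈ principalBlock M G then
        (χ : G → ℂ) x⁻¹ * (χ : G → ℂ) x * conj ((χ : G → ℂ) (x ^ l)) / (χ : G → ℂ) 1 else 0) := by
    rw [Finset.sum_comm, Finset.mul_sum]
    refine Finset.sum_congr rfl fun χ _ => ?_
    split_ifs
    · rw [← Finset.sum_mul]
      have h := sum_class_mul χ.2 x⁻¹ x
      rw [← Char.card_conjClass_eq_index x, ← hC] at h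
      rw [show ∑ y ∈ C, (χ : G → ℂ) (x⁻¹ * y) = ∑ y : G, CharTools.classInd x y * (χ : G → ℂ) (x⁻¹ * y) by
        rw [hC, Finset.sum_filter]
        exact Finset.sum_congr rfl fun y _ => by
          by_cases hy : IsConj y x
          · rw [if_pos hy, CharTools.classInd_of hy, one_mul]
          · rw [if_neg hy, CharTools.classInd_of_not hy, zero_mul], h]
      ring
    · simp
  have hF0 : ((fib 1).card : ℂ) ≠ 0 := Nat.cast_ne_zero.2 fun h => by
    rw [h, mul_zero] at hCcard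
    omega
  refine mul_left_cancel₀ hF0 ?_
  rw [← mul_assoc, mul_comm ((fib 1).card : ℂ), ← Nat.cast_mul, ← hCcard, ← hsum', hsum]
  ring

open scoped Classical in
/-- The total of the counts. -/
theorem sum_count {x : G} (hx : orderOf x = p) :
    ∑ l ∈ Finset.Ico 1 p, ((expSet p x).filter fun k => k ≠ 1 ∧ IsConj (x ^ (k - 1)) (x ^ l)).card =
      ((expSet p x).card - 1) * (expSet p x).card := by
  have hp : p.Prime := Fact.out
  simp only [Finset.card_filter]
  rw [Finset.sum_comm, Finset.sum_congr rfl fun k hk => show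
    ∑ l ∈ Finset.Ico 1 p, (if k ≠ 1 ∧ IsConj (x ^ (k - 1)) (x ^ l) then 1 else 0) =
      if k ≠ 1 then (expSet p x).card else 0 by
    split_ifs with h1
    · obtain ⟨hk1, hkp⟩ := Finset.mem_Ico.1 (mem_expSet.1 hk).1
      rw [← card_pow_isConj hx (i := k - 1) (fun h => absurd (Nat.le_of_dvd (by omega) h) (by omega)),
        Finset.card_filter]
      exact Finset.sum_congr rfl fun l _ => if_congr ⟨And.right, fun h => ⟨h1, h⟩⟩ rfl rfl
    · simp [h1], ← Finset.sum_filter, Finset.sum_const, smul_eq_mul, Finset.filter_ne']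
  rw [Finset.card_erase_of_mem (mem_expSet.2
    ⟨Finset.mem_Ico.2 ⟨le_rfl, hp.one_lt⟩, by rw [pow_one]⟩)]

end Cfsg.Agent.Lib.PairSolvable
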