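import Cfsg.Agent.Lib.PairSolvable.Identity
import Cfsg.Agent.Lib.PairSolvable.Vectors
import Cfsg.Agent.Lib.PairSolvable.Arith
import Cfsg.Agent.Lib.Block.Exist

/-!
# No simple group with a cyclic Sylow subgroup has all pairs solvable
-/

set_option autoImplicit false
set_option linter.unusedSectionVars false
set_option linter.style.haveILetI false
set_option maxHeartbeats 1600000

namespace Cfsg.Agent.Lib.PairSolvable

open Cfsg Cfsg.Agent.Lib Cfsg.Agent.Lib.Block
open scoped ComplexConjugate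

universe u

variable {p : ℕ} [Fact p.Prime] {G : Type u} [Group G] [Finite G]

open scoped Classical in
/-- The counting contradiction. -/
theorem false_of_pairs [IsSimpleGroup G] {P : Sylow p G} (hP : IsCyclic (P : Subgroup G))
    (hne : ¬ Subgroup.normalizer ((P : Subgroup G) : Set G) ≤
      Subgroup.centralizer ((P : Subgroup G) : Set G))
    (hpair : ∀ x y : G, orderOf x = p → orderOf y = p →
      IsPSolvable p (Subgroup.closure ({x, y} : Set G))) : False := by
  haveI := Fintype.ofFinite G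
  obtain ⟨M, hM⟩ := Block.exists_isPModular (Fact.out : p.Prime)
  haveI : M.IsPrime := hM.2.1.isPrime
  have hp : p.Prime := Fact.out
  haveI := hP
  letI : CommGroup (P : Subgroup G) := IsCyclic.commGroup
  haveI := Fintype.ofFinite (P : Subgroup G)
  haveI := Fintype.ofFinite (auto P)
  obtain ⟨nP, hnP⟩ := IsPGroup.iff_card.1 P.2
  have hn0 : nP ≠ 0 := by
    rintro rfl
    rw [pow_zero, Subgroup.card_eq_one] at hnP
    refine hne fun g _ => Subgroup.mem_centralizer_iff.2 fun h hh => ?_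
    rw [SetLike.mem_coe, hnP, Subgroup.mem_bot] at hh
    rw [hh, one_mul, mul_one]
  obtain ⟨x, hxo⟩ := exists_prime_orderOf_dvd_card' (G := (P : Subgroup G)) p
    (hnP ▸ dvd_pow_self p hn0)
  set q := Fintype.card (P : Subgroup G) with hqdef
  have hq : q = p ^ nP := by rw [hqdef, ← Nat.card_eq_fintype_card, hnP]
  have hxG : orderOf (x : G) = p := (Subgroup.orderOf_coe x).trans hxo
  have hxp : x ^ p = 1 := orderOf_dvd_iff_pow_eq_one.1 hxo.dvd
  have hxmod : ∀ i : ℕ, x ^ (i % p) = x ^ i := fun i => by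
    rw [pow_eq_pow_iff_modEq, hxo]
    exact Nat.mod_modEq i p
  have hx1 : x ≠ 1 := fun h => hp.one_lt.ne (by rw [← hxo, h, orderOf_one])
  set B : Finset (IrrCharacter G) :=
    Finset.univ.filter fun χ => χ ∈ principalBlock M G with hB
  have hmemB : ∀ χ, χ ∈ B ↔ χ ∈ principalBlock M G := fun χ => by simp [hB]
  have hfree : ∀ σ ∈ auto P, ∀ u : (P : Subgroup G), u ≠ 1 → σ u = u → σ = 1 :=
    fun σ hσ u hu h => auto_eq_one_of_fix hP hσ hu h
  have hEx : ∀ σ ∈ auto P, σ x ∈ Subgroup.zpowers x := by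
    intro σ _
    have h1 : ((σ x : (P : Subgroup G)) : G) ^ p = 1 := by
      rw [← SubmonoidClass.coe_pow, ← map_pow, hxp, map_one, OneMemClass.coe_one]
    obtain ⟨i, hi⟩ := mem_zpowers_of_pow_eq_one hP x.2 hxG (σ x).2 h1
    exact ⟨i, Subtype.ext (by simpa using hi)⟩
  have hconjiff : ∀ u v : (P : Subgroup G), IsConj (u : G) v ↔ ∃ σ ∈ auto P, σ u = v := fun u v =>
    ⟨exists_auto_of_isConj hP, fun ⟨σ, hσ, e⟩ => e ▸ isConj_auto hσ u⟩
  have horth : ∀ u v : (P : Subgroup G), u ≠ 1 → ∑ χ ∈ B, (χ : G → ℂ) u * conj ((χ : G → ℂ) v) =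
      if IsConj (u : G) v then (q : ℂ) else 0 := fun u v hu => by
    rw [hB, Finset.sum_filter, sum_principal_sylow hM hP u.2 (fun h => hu (Subtype.ext h)) v.2,
      hqdef, Nat.card_eq_fintype_card]
    split_ifs <;> rfl
  obtain ⟨T, _, Λ, ker, b, a, hrm, hnn, hval, hdeg, hgram, hdeg0, hΛsum, hΛint, hkerx, hkerR,
      hkerE, hkerN, htriv⟩ := exists_vectors (G := G) (P : Subgroup G).subtype (auto P) hfree B
    (fun σ hσ u χ _ => by
      obtain ⟨c, -, hc⟩ := auto_apply hσ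
      show (χ : G → ℂ) (σ u : G) = (χ : G → ℂ) u
      rw [hc, CharTools.conj_apply_eq χ.2])
    (fun u v hu _ => by
      show ∑ χ ∈ B, (χ : G → ℂ) (u : G) * conj ((χ : G → ℂ) (v : G)) = _
      rw [horth u v hu, if_congr (hconjiff u v) rfl rfl]
      split_ifs <;> rfl)
    (fun u hu => by
      have h := horth u 1 hu
      rw [OneMemClass.coe_one, if_neg fun h => hu (Subtype.ext (isConj_one_left.1 h))] at h
      exact h)
    hp hxo hEx
  set m := Fintype.card (auto P) with hmdef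
  set r := Fintype.card T with hrdef
  rw [← hqdef] at hrm
  have hm2 : 2 ≤ m := by
    by_contra hlt
    refine hne fun n hn => Subgroup.mem_centralizer_iff.2 fun u hu => ?_
    have hsub : Subsingleton (auto P) := Fintype.card_le_one_iff_subsingleton.1 (by omega)
    have h1 : (⟨_, ⟨⟨n, hn⟩, rfl⟩⟩ : auto P) = 1 := @Subsingleton.elim _ hsub _ _
    have h2 : n * u * n⁻¹ = u :=
      congrArg (fun σ : auto P => (((σ : MulAut (P : Subgroup G)) ⟨u, hu⟩ : (P : Subgroup G)) : G)) h1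
    exact (mul_inv_eq_iff_eq_mul.1 h2).symm
  -- the exponents
  have hA : (expSet p (x : G)).card = m := by
    have hex : ∀ σ : auto P, ∃ k, k ∈ Finset.Ico 1 p ∧ (σ : MulAut (P : Subgroup G)) x = x ^ k := by
      intro σ
      obtain ⟨i, hi⟩ := (isOfFinOrder_of_finite x).mem_powers_iff_mem_zpowers.2 (hEx σ σ.2)
      refine ⟨i % p, Finset.mem_Ico.2 ⟨Nat.pos_of_ne_zero fun h => hx1 ?_, Nat.mod_lt _ hp.pos⟩, ?_⟩
      · have h' : (σ : MulAut (P : Subgroup G)) x = 1 := by
          rw [← show x ^ i = (σ : MulAut (P : Subgroup G)) x from hi, ← hxmod, h, pow_zero]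
        exact (map_eq_one_iff _ (MulEquiv.injective _)).1 h'
      · rw [← show x ^ i = (σ : MulAut (P : Subgroup G)) x from hi]
        exact (hxmod i).symm
    choose k hk hkx using hex
    rw [hmdef, ← Finset.card_univ]
    refine (Finset.card_bij (fun σ _ => k σ) (fun σ _ => mem_expSet.2 ⟨hk σ, ?_⟩) ?_ ?_).symm
    · have h := isConj_auto σ.2 x
      rw [hkx σ, SubmonoidClass.coe_pow] at h
      exact h.symm
    · intro σ _ τ _ h
      have h2 : ((τ : MulAut (P : Subgroup G))⁻¹ * σ) x = x := by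
        show (τ : MulAut (P : Subgroup G))⁻¹ ((σ : MulAut (P : Subgroup G)) x) = x
        rw [hkx σ, h, ← hkx τ]
        exact MulEquiv.symm_apply_apply _ _
      exact Subtype.ext (inv_mul_eq_one.1
        (hfree _ (mul_mem (inv_mem τ.2) σ.2) x hx1 h2)).symm
    · intro j hj
      obtain ⟨hjI, hjc⟩ := mem_expSet.1 hj
      obtain ⟨σ, hσ, e⟩ := (hconjiff x (x ^ j)).1 (by rw [SubmonoidClass.coe_pow]; exact hjc.symm)
      refine ⟨⟨σ, hσ⟩, Finset.mem_univ _, ?_⟩
      refine pow_injOn_Iio_orderOf (x := x) ?_ ?_ ((hkx ⟨σ, hσ⟩).symm.trans e)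
      · show k _ < orderOf x
        rw [hxo]; exact (Finset.mem_Ico.1 (hk _)).2
      · show j < orderOf x
        rw [hxo]; exact (Finset.mem_Ico.1 hjI).2
  have hmp : m ≤ p - 1 := by
    rw [← hA, ← Nat.card_Ico 1 p]
    exact Finset.card_le_card fun k hk => (mem_expSet.1 hk).1
  have hp3 : 3 ≤ p := by omega
  -- the identities
  set one : IrrCharacter G := oneIrr G with hone
  have honeB : one ∈ B := (hmemB _).2 oneIrr_mem
  obtain ⟨haone, hbone⟩ := htriv one honeB fun _ => rfl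
  set d : IrrCharacter G → ℤ := fun χ => (charDegree (χ : G → ℂ) : ℤ) with hddef
  have hd : ∀ χ : IrrCharacter G, (χ : G → ℂ) 1 = (d χ : ℂ) := fun χ => by
    rw [Char.apply_one_eq_charDegree (Char.isCharacter_of_isIrr χ.2), hddef, Int.cast_natCast]
  have hdpos : ∀ χ : IrrCharacter G, 0 < d χ := fun χ => by
    have h := deg_ne_zero χ
    rw [hd] at h
    have : d χ ≠ 0 := fun e => h (by rw [e, Int.cast_zero])
    have : 0 ≤ d χ := Int.natCast_nonneg _
    omega
  have hdform : ∀ χ ∈ B, d χ = (q : ℤ) * a χ + (m : ℤ) * ∑ t, b χ t := fun χ hχ => by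
    have h := hdeg χ hχ
    rw [hd] at h
    exact_mod_cast h
  have hfaith : ∀ χ ∈ B, χ ≠ one → (χ : G → ℂ) x ≠ (χ : G → ℂ) 1 := by
    intro χ _ hχ1 he
    have hc := Char.isCharacter_of_isIrr χ.2
    have hn := CharKernel.kerChar_normal hc
    rcases hn.eq_bot_or_eq_top with hb | ht
    · exact hx1 (Subtype.ext (Subgroup.mem_bot.1 (hb ▸ (CharKernel.mem_kerChar hc _).2 he)))
    · have hall : ∀ g : G, (χ : G → ℂ) g = (d χ : ℂ) := fun g => by
        rw [(CharKernel.mem_kerChar hc g).1 (ht ▸ Subgroup.mem_top g), hd]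
      have h1 := Char.classInner_irr_self χ.2
      rw [classInner] at h1
      simp only [hall, map_intCast, Finset.sum_const, Finset.card_univ, nsmul_eq_mul,
        ← Nat.card_eq_fintype_card] at h1
      rw [← mul_assoc, inv_mul_cancel₀ (Char.card_ne_zero_complex G), one_mul] at h1
      have h2 : d χ * d χ = 1 := by exact_mod_cast h1
      have h3 : d χ = 1 := by
        rcases Int.eq_one_or_neg_one_of_mul_eq_one h2 with h | h
        · exact h
        · have := hdpos χ; omega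
      exact hχ1 (Subtype.ext (funext fun g => by rw [hall g, h3, Int.cast_one]; rfl))
  have hxl : ∀ l ∈ Finset.Ico 1 p, x ^ l ≠ 1 := fun l hl h => absurd
    (Nat.le_of_dvd (Finset.mem_Ico.1 hl).1 (hxo ▸ orderOf_dvd_of_pow_eq_one h))
    (not_le.2 (Finset.mem_Ico.1 hl).2)
  set w : IrrCharacter G → ℝ := fun χ => Complex.normSq ((χ : G → ℂ) x) with hw
  have hwC : ∀ χ : IrrCharacter G, (w χ : ℂ) = (χ : G → ℂ) (x : G)⁻¹ * (χ : G → ℂ) x := fun χ => by
    rw [hw, Char.char_inv (Char.isCharacter_of_isIrr χ.2), mul_comm, Complex.mul_conj]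
  have hid : ∀ l ∈ Finset.Ico 1 p, ∃ N : ℕ,
      (m : ℂ) * ∑ χ ∈ B, (w χ : ℂ) * conj ((χ : G → ℂ) ((x : G) ^ l)) / (d χ : ℂ) = (q : ℂ) * N ∧
      N = ((expSet p (x : G)).filter fun k =>
        k ≠ 1 ∧ IsConj ((x : G) ^ (k - 1)) ((x : G) ^ l)).card := by
    intro l hl
    refine ⟨_, ?_, rfl⟩
    have h := identity hM hP x.2 hxG (fun y hy => hpair _ y hxG hy) hl
    rw [hA, Nat.card_eq_fintype_card, ← hqdef] at h
    rw [← h, hB, Finset.sum_filter]
    refine congrArg _ (Finset.sum_congr rfl fun χ _ => ?_)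
    split_ifs
    · rw [hwC, hd]
    · rfl
  have hsum : ∑ χ ∈ B, (w χ : ℂ) * (∑ l ∈ Finset.Ico 1 p, conj ((χ : G → ℂ) ((x : G) ^ l))) /
      (d χ : ℂ) = (q : ℂ) * ((m : ℂ) - 1) := by
    choose N hN hN' using hid
    have hcount : ∑ l ∈ (Finset.Ico 1 p).attach, N l.1 l.2 = (m - 1) * m := by
      have h := sum_count (p := p) hxG
      rw [hA, ← Finset.sum_attach] at h
      rw [← h]
      exact Finset.sum_congr rfl fun l _ => by convert hN' l.1 l.2
    refine mul_left_cancel₀ (Nat.cast_ne_zero.2 (show m ≠ 0 by omega)) ?_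
    simp only [Finset.mul_sum, Finset.sum_div]
    rw [Finset.sum_comm]
    simp only [← Finset.mul_sum]
    rw [Finset.mul_sum, ← Finset.sum_attach, Finset.sum_congr rfl fun l _ => hN l.1 l.2, ← Finset.mul_sum,
      ← Nat.cast_sum, hcount, Nat.cast_mul, Nat.cast_sub (by omega), Nat.cast_one]
    ring
  have hwsum : ∑ χ ∈ B, w χ = q := by
    have h := horth x x hx1
    rw [if_pos (IsConj.refl _)] at h
    apply Complex.ofReal_injective
    rw [Complex.ofReal_sum, Complex.ofReal_natCast, ← h]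
    exact Finset.sum_congr rfl fun χ _ => by rw [hw, Complex.mul_conj]
  have hone_x : ∀ g : G, (one : G → ℂ) g = 1 := fun g => rfl
  have hdone : d one = 1 := by
    have h := hd one
    rw [hone_x] at h
    exact_mod_cast h.symm
  -- the general contradiction
  have hfalse : ∀ k K : ℤ, 0 < k → k * ((p : ℤ) - 1) + ((q : ℤ) - 1) * K < k * (q * ((m : ℤ) - 1)) →
      (∀ χ ∈ B, χ ≠ one → ∃ R : ℤ,
        ∑ l ∈ Finset.Ico 1 p, conj ((χ : G → ℂ) ((x : G) ^ l)) = (R : ℂ) ∧ k * R ≤ K * d χ) →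
      False := by
    intro k K hk hlt hR
    choose R hR hRK using hR
    let Rf : IrrCharacter G → ℤ := fun χ =>
      if h : χ ∈ B ∧ χ ≠ one then R χ h.1 h.2 else (p : ℤ) - 1
    have hsumR : ∀ χ ∈ B,
        ∑ l ∈ Finset.Ico 1 p, conj ((χ : G → ℂ) ((x : G) ^ l)) = (Rf χ : ℂ) := by
      intro χ hχ
      by_cases h : χ = one
      · subst h
        simp only [Rf, ne_eq, not_true_eq_false, and_false, dite_false, hone_x, map_one,
          Finset.sum_const, Nat.card_Ico, nsmul_eq_mul, mul_one, Nat.cast_sub hp.one_lt.le]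
        push_cast
        ring
      · simp only [Rf, dif_pos (And.intro hχ h)]
        exact hR χ hχ h
    have hreal : ∑ χ ∈ B, w χ * (Rf χ : ℝ) / (d χ : ℝ) = (q : ℝ) * ((m : ℝ) - 1) := by
      apply Complex.ofReal_injective
      push_cast
      rw [← hsum]
      exact Finset.sum_congr rfl fun χ hχ => by rw [hsumR χ hχ]
    rw [← Finset.add_sum_erase _ _ honeB] at hreal hwsum
    have hw1 : w one = 1 := by simp [hw, hone_x]
    have hterm : w one * (Rf one : ℝ) / (d one : ℝ) = (p : ℝ) - 1 := by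
      simp [hw1, hdone, Rf]
    rw [hterm] at hreal
    rw [hw1] at hwsum
    have hle : (k : ℝ) * ∑ χ ∈ B.erase one, w χ * (Rf χ : ℝ) / (d χ : ℝ) ≤
        (K : ℝ) * ∑ χ ∈ B.erase one, w χ := by
      rw [Finset.mul_sum, Finset.mul_sum]
      refine Finset.sum_le_sum fun χ hχ => ?_
      obtain ⟨hne', hχB⟩ := Finset.mem_erase.1 hχ
      have hRf : k * Rf χ ≤ K * d χ := by
        simp only [Rf, dif_pos (And.intro hχB hne')]
        exact hRK χ hχB hne'
      have hRf' : (k : ℝ) * (Rf χ : ℝ) ≤ (K : ℝ) * (d χ : ℝ) := by exact_mod_cast hRf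
      have hd0 : (0 : ℝ) < (d χ : ℝ) := by exact_mod_cast hdpos χ
      rw [mul_div, div_le_iff₀ hd0]
      calc (k : ℝ) * (w χ * Rf χ) = w χ * ((k : ℝ) * Rf χ) := by ring
        _ ≤ w χ * ((K : ℝ) * d χ) := mul_le_mul_of_nonneg_left hRf' (Complex.normSq_nonneg _)
        _ = _ := by ring
    have h1 : ∑ χ ∈ B.erase one, w χ = (q : ℝ) - 1 := by linarith
    rw [h1] at hle
    have h2 : ((k * ((p : ℤ) - 1) + ((q : ℤ) - 1) * K : ℤ) : ℝ) <
        ((k * (q * ((m : ℤ) - 1)) : ℤ) : ℝ) := by exact_mod_cast hlt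
    push_cast at h2
    rw [show ∑ χ ∈ B.erase one, w χ * (Rf χ : ℝ) / (d χ : ℝ) =
      (q : ℝ) * ((m : ℝ) - 1) - ((p : ℝ) - 1) by linarith] at hle
    linarith
  -- values
  have hqp : q = p ∨ p * p ≤ q := by
    rcases Nat.lt_or_ge nP 2 with h | h
    · left; rw [hq, show nP = 1 by omega, pow_one]
    · right; rw [hq, ← sq]; exact Nat.pow_le_pow_right hp.pos h
  have hqz : (q : ℤ) = (r : ℤ) * m + 1 := by exact_mod_cast hrm.symm
  have hpq : (p : ℤ) ≤ q := by
    rcases hqp with h | h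
    · exact le_of_eq (by exact_mod_cast h.symm)
    · exact_mod_cast (Nat.le_mul_of_pos_left p hp.pos).trans h
  have hm2' : (2 : ℤ) ≤ m := by exact_mod_cast hm2
  have hmp' : (m : ℤ) ≤ (p : ℤ) - 1 := by omega
  have hr1 : 1 ≤ r := by
    rcases Nat.eq_zero_or_pos r with h | h
    · rw [h, zero_mul, zero_add] at hrm; omega
    · exact h
  -- characters with constant vector
  have hconst : ∀ χ ∈ B, χ ≠ one → ∀ c : ℤ, (∀ t, b χ t = c) →
      (∀ u : (P : Subgroup G), u ≠ 1 → (χ : G → ℂ) u = -(c : ℂ)) ∧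
      ∑ l ∈ Finset.Ico 1 p, conj ((χ : G → ℂ) ((x : G) ^ l)) = ((-c * ((p : ℤ) - 1) : ℤ) : ℂ) ∧
      (q : ℤ) - 1 ≤ d χ ∧ d χ = (q : ℤ) * a χ + ((q : ℤ) - 1) * c := by
    intro χ hχ hχ1 c hc
    have hv : ∀ u : (P : Subgroup G), u ≠ 1 → (χ : G → ℂ) u = -(c : ℂ) := fun u hu => by
      show (χ : G → ℂ) ((P : Subgroup G).subtype u) = _
      rw [hval χ hχ u hu]
      simp only [hc, ← Finset.mul_sum, hΛsum u hu, mul_neg, mul_one]
    have hdc : d χ = (q : ℤ) * a χ + ((q : ℤ) - 1) * c := by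
      rw [hdform χ hχ]
      simp only [hc, Finset.sum_const, Finset.card_univ, nsmul_eq_mul, ← hrdef, hqz]
      ring
    obtain ⟨t⟩ : Nonempty T := Fintype.card_pos_iff.1 hr1
    have hac : 1 ≤ (a χ : ℤ) + c := by
      have h0 := hnn χ hχ t
      rw [hc t] at h0
      by_contra hlt
      refine hfaith χ hχ hχ1 ?_
      rw [hv x hx1, hd, hdc, show c = -(a χ : ℤ) by omega]
      push_cast
      ring
    refine ⟨hv, ?_, ?_, hdc⟩
    · rw [Finset.sum_congr rfl (g := fun _ => -(c : ℂ)) fun l hl => by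
        rw [← SubmonoidClass.coe_pow, hv _ (hxl l hl), map_neg, map_intCast]]
      rw [Finset.sum_const, Nat.card_Ico, nsmul_eq_mul, Nat.cast_sub hp.one_lt.le]
      push_cast
      ring
    · rw [hdc]
      have h2 : (a χ : ℤ) + ((q : ℤ) - 1) * ((a χ : ℤ) + c) = (q : ℤ) * a χ + ((q : ℤ) - 1) * c := by
        ring
      nlinarith
  rcases hr1.eq_or_lt with hr | hr
  · -- no exceptional characters
    obtain ⟨t₀⟩ : Nonempty T := Fintype.card_pos_iff.1 (by omega)
    have hall : ∀ t, t = t₀ := fun t => Fintype.card_le_one_iff.1 (by omega) t t₀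
    have hqp' : q = p := by
      rcases hqp with h | h
      · exact h
      · exfalso
        rw [← hrm, ← hr] at h
        nlinarith
    have hmq : (m : ℤ) = (p : ℤ) - 1 := by
      rw [← hr, one_mul] at hrm
      omega
    have hc2 : ∑ χ ∈ B.erase one, b χ t₀ * b χ t₀ = (m : ℤ) := by
      have h := hgram t₀ t₀
      rw [if_pos rfl, ← Finset.add_sum_erase _ _ honeB, hbone t₀] at h
      linarith
    have hle : ∀ χ ∈ B, χ ≠ one → b χ t₀ ^ 2 ≤ (m : ℤ) := fun χ hχ h1 => by
      rw [← hc2, sq]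
      exact Finset.single_le_sum (f := fun χ => b χ t₀ * b χ t₀) (fun _ _ => mul_self_nonneg _)
        (Finset.mem_erase.2 ⟨h1, hχ⟩)
    by_cases hm3 : 3 ≤ m
    · refine hfalse 1 ((m : ℤ) - 2) one_pos ?_ fun χ hχ h1 => ?_
      · rw [hqp']; nlinarith
      · obtain ⟨-, hR, hdd, -⟩ := hconst χ hχ h1 (b χ t₀) fun t => by rw [hall t]
        obtain ⟨hlo, -⟩ := abs_le_sub_two (c := b χ t₀) (m := (m : ℤ)) (by omega)
          (Or.inr ⟨by
            rcases hp.eq_two_or_odd' with h | ⟨j, hj⟩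
            · omega
            · omega, hle χ hχ h1⟩)
        refine ⟨_, hR, ?_⟩
        rw [hqp'] at hdd
        nlinarith [mul_le_mul_of_nonneg_left hdd (show (0 : ℤ) ≤ (m : ℤ) - 2 by omega)]
    · -- degree three
      have hm : m = 2 := by omega
      have hp3' : p = 3 := by omega
      set S := (B.erase one).filter fun χ => b χ t₀ ≠ 0 with hS
      have hsign : ∀ χ ∈ S, b χ t₀ = 1 ∨ b χ t₀ = -1 := fun χ hχ => by
        obtain ⟨h1, h2⟩ := Finset.mem_filter.1 hχ
        obtain ⟨h3, h4⟩ := Finset.mem_erase.1 h1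
        have h' := hle χ h4 h3
        rw [hm] at h'
        have h : b χ t₀ ^ 2 ≤ 2 := by exact_mod_cast h'
        have hub : b χ t₀ ≤ 1 := by nlinarith
        have hlb : -1 ≤ b χ t₀ := by nlinarith
        omega
      have hScard : S.card = 2 := by
        have h : ∑ χ ∈ S, b χ t₀ * b χ t₀ = 2 := by
          rw [hS, Finset.sum_filter_of_ne (p := fun χ => b χ t₀ ≠ 0)
            fun χ _ h h0 => h (by rw [h0, mul_zero]), hc2, hm]
          rfl
        rw [Finset.sum_congr rfl (g := fun _ => (1 : ℤ)) fun χ hχ => by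
          rcases hsign χ hχ with h | h <;> rw [h] <;> norm_num, Finset.sum_const, nsmul_one] at h
        exact_mod_cast h
      obtain ⟨χ₁, χ₂, hne12, hS12⟩ := Finset.card_eq_two.1 hScard
      have hsum0 : -1 + (b χ₁ t₀ * d χ₁ + b χ₂ t₀ * d χ₂) = 0 := by
        have h := hdeg0 t₀
        rw [← Finset.add_sum_erase _ _ honeB, hbone t₀, hone_x, mul_one,
          ← Finset.sum_filter_of_ne (p := fun χ => b χ t₀ ≠ 0) (fun χ _ h h0 => h (by simp [h0])),
          ← hS, hS12, Finset.sum_pair hne12, hd, hd] at h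
        exact_mod_cast h
      have hmem : ∀ χ ∈ S, χ ∈ B ∧ χ ≠ one := fun χ hχ => by
        obtain ⟨h1, h2⟩ := Finset.mem_erase.1 (Finset.mem_filter.1 hχ).1
        exact ⟨h2, h1⟩
      have h1S : χ₁ ∈ S := by rw [hS12]; simp
      have h2S : χ₂ ∈ S := by rw [hS12]; simp
      have hvals : ∀ χ ∈ B, χ ≠ one → (w χ : ℂ) * (∑ l ∈ Finset.Ico 1 p,
          conj ((χ : G → ℂ) ((x : G) ^ l))) / (d χ : ℂ) = (-2 * b χ t₀ ^ 3 : ℤ) / (d χ : ℂ) := by
        intro χ hχ h1
        obtain ⟨hv, hR, -, -⟩ := hconst χ hχ h1 (b χ t₀) fun t => by rw [hall t]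
        rw [hR, hp3', hw]
        simp only [hv x hx1, Complex.normSq_neg, Complex.normSq_intCast]
        push_cast
        ring
      have heq : (-2 * b χ₁ t₀ : ℤ) / (d χ₁ : ℂ) + (-2 * b χ₂ t₀ : ℤ) / (d χ₂ : ℂ) = 1 := by
        have h := hsum
        rw [← Finset.add_sum_erase _ _ honeB, Finset.sum_congr rfl fun χ hχ => hvals χ
          (Finset.mem_erase.1 hχ).2 (Finset.mem_erase.1 hχ).1,
          ← Finset.sum_filter_of_ne (p := fun χ => b χ t₀ ≠ 0) (fun χ _ h h0 => h (by simp [h0])),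
          ← hS, hS12, Finset.sum_pair hne12] at h
        have hw1 : (w one : ℂ) = 1 := by simp [hw, hone_x]
        simp only [hone_x, map_one, Finset.sum_const, Nat.card_Ico, hp3', hw1, hdone, hm, hqp'] at h
        rw [show b χ₁ t₀ ^ 3 = b χ₁ t₀ by rcases hsign χ₁ h1S with e | e <;> rw [e] <;> norm_num,
          show b χ₂ t₀ ^ 3 = b χ₂ t₀ by rcases hsign χ₂ h2S with e | e <;> rw [e] <;> norm_num] at h
        norm_num at h
        push_cast
        linear_combination h
      have hd2 : ∀ χ ∈ S, 2 ≤ d χ := fun χ hχ => by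
        obtain ⟨-, -, hdd, -⟩ := hconst χ (hmem χ hχ).1 (hmem χ hχ).2 (b χ t₀) fun t => by rw [hall t]
        omega
      have heq' : -2 * b χ₁ t₀ * d χ₂ + -2 * b χ₂ t₀ * d χ₁ = d χ₁ * d χ₂ := by
        have e1 : (d χ₁ : ℂ) ≠ 0 := Int.cast_ne_zero.2 (hdpos χ₁).ne'
        have e2 : (d χ₂ : ℂ) ≠ 0 := Int.cast_ne_zero.2 (hdpos χ₂).ne'
        field_simp at heq
        push_cast at heq
        apply Int.cast_injective (α := ℂ)
        push_cast
        linear_combination heq
      have hd1 := hd2 χ₁ h1S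
      have hd2' := hd2 χ₂ h2S
      rcases hsign χ₁ h1S with e1 | e1 <;> rcases hsign χ₂ h2S with e2 | e2 <;>
        rw [e1, e2] at heq' hsum0 <;> nlinarith
  -- exceptional characters
  obtain ⟨μ, ε, γ, hμ, hμB, hε, hbμ, hdμ, c, hbc, hnorm⟩ :=
    exists_coherent_vectors (G := G) hr B b (m := (m : ℤ))
      (by intro t s; rw [hgram t s]) hdeg0
  rw [← hrdef] at hnorm
  have hμone : ∀ t, μ t ≠ one := by
    intro t he
    obtain ⟨s, hs⟩ := Fintype.exists_ne_of_one_lt_card hr t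
    have h1 := hbμ t t
    have h2 := hbμ s t
    rw [he, hbone, if_pos rfl] at h1
    rw [he, hbone, if_neg hs] at h2
    rcases hε with rfl | rfl <;> omega
  have hcone : c one = -1 := by
    obtain ⟨t⟩ : Nonempty T := Fintype.card_pos_iff.1 (by omega)
    rw [← hbc one honeB hμone t, hbone]
  set Z := (B.filter fun χ => ∀ t, μ t ≠ χ).erase one with hZ
  have hone_mem : one ∈ B.filter fun χ => ∀ t, μ t ≠ χ := Finset.mem_filter.2 ⟨honeB, hμone⟩
  have hZsum : ∑ χ ∈ Z, c χ ^ 2 = (m : ℤ) - 1 - ((r : ℤ) * γ ^ 2 + 2 * ε * γ) := by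
    rw [hZ, Finset.sum_erase_eq_sub hone_mem, hcone]
    linarith
  have hZnn : 0 ≤ ∑ χ ∈ Z, c χ ^ 2 := Finset.sum_nonneg fun _ _ => sq_nonneg _
  have hcase : ∀ χ ∈ B, χ ≠ one → χ ∈ Z ∨ ∃ s, μ s = χ := fun χ hχ h1 => by
    by_cases h : ∀ t, μ t ≠ χ
    · exact Or.inl (Finset.mem_erase.2 ⟨h1, Finset.mem_filter.2 ⟨hχ, h⟩⟩)
    · push Not at h
      exact Or.inr h
  have hZmem : ∀ χ ∈ Z, χ ∈ B ∧ χ ≠ one ∧ ∀ t, μ t ≠ χ := fun χ hχ => by
    obtain ⟨h1, h2⟩ := Finset.mem_erase.1 hχ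
    exact ⟨(Finset.mem_filter.1 h2).1, h1, (Finset.mem_filter.1 h2).2⟩
  have hZle : ∀ χ ∈ Z, c χ ^ 2 ≤ (m : ℤ) - 1 - ((r : ℤ) * γ ^ 2 + 2 * ε * γ) := fun χ hχ =>
    hZsum ▸ Finset.single_le_sum (f := fun χ => c χ ^ 2) (fun _ _ => sq_nonneg _) hχ
  have hexc : ∀ s,
      (∀ u : (P : Subgroup G), u ≠ 1 → (μ s : G → ℂ) u = -(γ : ℂ) + (ε : ℂ) * Λ s u) ∧
      ∑ l ∈ Finset.Ico 1 p, conj ((μ s : G → ℂ) ((x : G) ^ l)) =
        ((-γ * ((p : ℤ) - 1) + ε * m * (if ker s then (p : ℤ) - 1 else -1) : ℤ) : ℂ) ∧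
      d (μ s) = ((r : ℤ) * m + 1) * a (μ s) + (r : ℤ) * m * γ + m * ε ∧
      0 ≤ (a (μ s) : ℤ) + γ ∧ 0 ≤ (a (μ s) : ℤ) + γ + ε := by
    intro s
    have hv : ∀ u : (P : Subgroup G), u ≠ 1 →
        (μ s : G → ℂ) u = -(γ : ℂ) + (ε : ℂ) * Λ s u := fun u hu => by
      show (μ s : G → ℂ) ((P : Subgroup G).subtype u) = _
      rw [hval _ (hμB s) u hu]
      simp only [hbμ, Int.cast_add, add_mul, Finset.sum_add_distrib, ← Finset.mul_sum, hΛsum u hu,
        apply_ite (Int.cast : ℤ → ℂ), Int.cast_zero, ite_mul, zero_mul, Finset.sum_ite_eq',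
        Finset.mem_univ, if_true, mul_neg, mul_one]
    refine ⟨hv, ?_, ?_, ?_, ?_⟩
    · rw [Finset.sum_congr rfl (g := fun l => -(γ : ℂ) + (ε : ℂ) * conj (Λ s (x ^ l))) fun l hl => by
        rw [← SubmonoidClass.coe_pow, hv _ (hxl l hl), map_add, map_neg, map_mul, map_intCast,
          map_intCast], Finset.sum_add_distrib, ← Finset.mul_sum, hkerR s, Finset.sum_const,
        Nat.card_Ico, nsmul_eq_mul, Nat.cast_sub hp.one_lt.le]
      split_ifs <;> push_cast <;> ring
    · rw [hdform _ (hμB s), hqz]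
      simp only [hbμ, Finset.sum_add_distrib, Finset.sum_const, Finset.card_univ, nsmul_eq_mul,
        Finset.sum_ite_eq', Finset.mem_univ, if_true, ← hrdef]
      ring
    · obtain ⟨t, ht⟩ := Fintype.exists_ne_of_one_lt_card hr s
      have h := hnn _ (hμB s) t
      rwa [hbμ, if_neg ht, add_zero] at h
    · have h := hnn _ (hμB s) s
      rwa [hbμ, if_pos rfl, ← add_assoc] at h
  have haeq : ∀ s t, (a (μ s) : ℤ) = a (μ t) := fun s t => by
    have e : (d (μ s) : ℂ) = (d (μ t) : ℂ) := by rw [← hd, ← hd, hdμ s t]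
    have e' : d (μ s) = d (μ t) := by exact_mod_cast e
    rw [(hexc s).2.2.1, (hexc t).2.2.1] at e'
    have hpos : (0 : ℤ) < (r : ℤ) * m + 1 := by positivity
    nlinarith
  have hrne : (r : ℤ) * γ ^ 2 + 2 * ε * γ ≥ 0 := by
    have hr2 : (2 : ℤ) ≤ r := by exact_mod_cast hr
    rcases hε with rfl | rfl
    · rcases le_or_gt 0 γ with h | h
      · positivity
      · nlinarith [mul_le_mul_of_nonneg_right hr2 (sq_nonneg γ)]
    · rcases le_or_gt γ 0 with h | h
      · nlinarith [mul_le_mul_of_nonneg_right hr2 (sq_nonneg γ)]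
      · nlinarith [mul_le_mul_of_nonneg_right hr2 (sq_nonneg γ)]
  rcases hqp with hqp' | hqp'
  · -- the Sylow subgroup has order p
    have hprm : (p : ℤ) - 1 = (r : ℤ) * m := by rw [← hqp', hqz]; ring
    have hr2 : (2 : ℤ) ≤ r := by exact_mod_cast hr
    have hnk : ∀ s, ¬ ker s := hkerN (by rw [← hqdef, hqp'])
    -- few non-exceptional characters are impossible
    have hsmall : ∑ χ ∈ Z, c χ ^ 2 ≤ 1 → False := by
      intro hle
      obtain ⟨t₀⟩ : Nonempty T := Fintype.card_pos_iff.1 (by omega)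
      set dY := d (μ t₀) with hdY
      have hdY2 : 2 ≤ dY := by
        obtain ⟨-, -, hdd, h1, h2⟩ := hexc t₀
        rw [hdY, hdd]
        rcases h1.eq_or_lt with h0 | h0
        · rcases hε with rfl | rfl
          · have e : γ = -(a (μ t₀) : ℤ) := by omega
            rw [e]; nlinarith
          · omega
        · have h3 : 1 ≤ (a (μ t₀) : ℤ) + γ := h0
          rcases hε with rfl | rfl <;>
            nlinarith [mul_le_mul_of_nonneg_left h3 (show (0 : ℤ) ≤ (r : ℤ) * m by positivity),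
              mul_le_mul_of_nonneg_right hr2 (show (0 : ℤ) ≤ (m : ℤ) by positivity)]
      have hdall : ∀ t, d (μ t) = dY := fun t => by
        have e : (d (μ t) : ℂ) = (dY : ℂ) := by rw [hdY, ← hd, ← hd, hdμ t t₀]
        exact_mod_cast e
      have hsplitB : ∀ f : IrrCharacter G → ℂ,
          ∑ χ ∈ B, f χ = f one + ∑ χ ∈ Z, f χ + ∑ t, f (μ t) := by
        intro f
        rw [← Finset.sum_filter_add_sum_filter_not B (fun χ => ∀ t, μ t ≠ χ),
          ← Finset.add_sum_erase _ _ hone_mem, ← hZ]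
        congr 1
        rw [← Finset.sum_image fun _ _ _ _ e => hμ e]
        refine Finset.sum_congr ?_ fun _ _ => rfl
        ext χ
        simp only [Finset.mem_filter, Finset.mem_image, Finset.mem_univ, true_and, not_forall,
          not_not]
        exact ⟨fun h => h.2, fun ⟨t, ht⟩ => ⟨ht ▸ hμB t, t, ht⟩⟩
      have hrel : -1 + ∑ χ ∈ Z, c χ * d χ + ((r : ℤ) * γ + ε) * dY = 0 := by
        have h := hdeg0 t₀
        rw [hsplitB, hbone, hone_x] at h
        simp only [hbμ, hd, hdall] at h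
        rw [Finset.sum_congr rfl fun χ hχ => by
          rw [hbc χ (hZmem χ hχ).1 (hZmem χ hχ).2.2 t₀]] at h
        apply Int.cast_injective (α := ℂ)
        rw [Int.cast_zero, ← h]
        simp only [Int.cast_add, Int.cast_ite, add_mul, Finset.sum_add_distrib, ite_mul,
          Finset.sum_ite_eq, Finset.mem_univ, if_true, Int.cast_zero, zero_mul, Finset.sum_const,
          Finset.card_univ, nsmul_eq_mul, ← hrdef]
        push_cast
        ring
      rcases Int.lt_or_le (∑ χ ∈ Z, c χ ^ 2) 1 with hlt | hge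
      · have h0 : ∑ χ ∈ Z, c χ * d χ = 0 := Finset.sum_eq_zero fun χ hχ => by
          have h := (Finset.sum_eq_zero_iff_of_nonneg fun _ _ => sq_nonneg _).1
            (show ∑ χ ∈ Z, c χ ^ 2 = 0 by omega) χ hχ
          rw [sq_eq_zero_iff.1 h, zero_mul]
        rw [h0, add_zero] at hrel
        have hu : dY ∣ 1 := ⟨(r : ℤ) * γ + ε, by linear_combination -hrel⟩
        have := Int.le_of_dvd one_pos hu
        omega
      · obtain ⟨χ₀, hχ₀, hc₀⟩ := Finset.exists_ne_zero_of_sum_ne_zero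
          (show ∑ χ ∈ Z, c χ ^ 2 ≠ 0 by omega)
        have hrest : ∀ χ ∈ Z, χ ≠ χ₀ → c χ = 0 := fun χ hχ hne' => by
          by_contra h0
          have h := Finset.sum_le_sum_of_subset_of_nonneg
            (show ({χ, χ₀} : Finset (IrrCharacter G)) ⊆ Z by
              intro y hy; rcases Finset.mem_insert.1 hy with rfl | hy
              · exact hχ
              · rw [Finset.mem_singleton.1 hy]; exact hχ₀)
            (f := fun χ => c χ ^ 2) fun _ _ _ => sq_nonneg _
          rw [Finset.sum_pair hne'] at h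
          have h1 : 0 < c χ ^ 2 := lt_of_le_of_ne (sq_nonneg _) (Ne.symm (pow_ne_zero 2 h0))
          have h2 : 0 < c χ₀ ^ 2 := lt_of_le_of_ne (sq_nonneg _) (Ne.symm hc₀)
          omega
        have hone0 : c χ₀ ^ 2 = 1 := by
          have h := Finset.sum_eq_single (f := fun χ => c χ ^ 2) χ₀
            (fun χ hχ hne' => by rw [hrest χ hχ hne']; rfl) (fun h => absurd hχ₀ h)
          omega
        rw [Finset.sum_eq_single χ₀ (fun χ hχ hne' => by rw [hrest χ hχ hne', zero_mul])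
          (fun h => absurd hχ₀ h)] at hrel
        obtain ⟨hχ₀B, hχ₀1, hχ₀μ⟩ := hZmem χ₀ hχ₀
        obtain ⟨hv, hR, hdd, -⟩ := hconst χ₀ hχ₀B hχ₀1 (c χ₀) (hbc χ₀ hχ₀B hχ₀μ)
        obtain ⟨N, hN, -⟩ := hid 1 (Finset.mem_Ico.2 ⟨le_rfl, hp.one_lt⟩)
        set S : ℂ := ∑ t, (w (μ t) : ℂ) * conj ((μ t : G → ℂ) (x : G)) with hSdef
        have hSint : IsIntegral ℤ S := by
          refine IsIntegral.sum _ fun t _ => ?_
          rw [hwC, ← Char.char_inv (Char.isCharacter_of_isIrr (μ t).2)]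
          exact ((Char.char_isIntegral (Char.isCharacter_of_isIrr (μ t).2) _).mul
            (Char.char_isIntegral (Char.isCharacter_of_isIrr (μ t).2) _)).mul
            (Char.char_isIntegral (Char.isCharacter_of_isIrr (μ t).2) _)
        rw [pow_one, hsplitB, Finset.sum_eq_single χ₀ (fun χ hχ hne' => by
          obtain ⟨hB', h1', hμ'⟩ := hZmem χ hχ
          obtain ⟨hv', -, -, -⟩ := hconst χ hB' h1' (c χ) (hbc χ hB' hμ')
          simp only [hw, hv' x hx1, hrest χ hχ hne']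
          simp) (fun h => absurd hχ₀ h)] at hN
        simp only [hdall, ← Finset.sum_div, ← hSdef] at hN
        have hw0 : (w χ₀ : ℂ) = 1 := by
          simp only [hw, hv x hx1, Complex.normSq_neg, Complex.normSq_intCast]
          norm_cast
          rw [← sq]
          exact hone0
        have hw1 : (w one : ℂ) = 1 := by simp [hw, hone_x]
        rw [hw0, hw1, hv x hx1, map_neg, map_intCast, hone_x, map_one, hdone] at hN
        have hd0 : (d χ₀ : ℂ) ≠ 0 := Int.cast_ne_zero.2 (hdpos χ₀).ne'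
        have hdY0 : (dY : ℂ) ≠ 0 := Int.cast_ne_zero.2 (by omega)
        have hm0 : (m : ℂ) ≠ 0 := Nat.cast_ne_zero.2 (by omega)
        have hSrat : S = ((((dY : ℚ) * ((q : ℚ) * N / m - 1 + (c χ₀ : ℚ) / d χ₀)) : ℚ) : ℂ) := by
          push_cast
          rw [← hN]
          field_simp
          ring
        obtain ⟨z, hz⟩ := Char.exists_int_of_isIntegral (hSrat ▸ hSint)
        rw [hz] at hSrat
        rw [hSrat] at hN
        push_cast at hN
        have hkey : (m : ℤ) * (d χ₀ * dY + -(c χ₀) * dY + d χ₀ * z) = (q : ℤ) * N * d χ₀ * dY := by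
          apply Int.cast_injective (α := ℂ)
          push_cast
          field_simp at hN
          linear_combination hN
        have hdvd : d χ₀ ∣ (m : ℤ) := by
          refine ⟨(m : ℤ) * c χ₀ + ((r : ℤ) * γ + ε) *
            (c χ₀ * (((m : ℤ) * (dY + z)) - (q : ℤ) * N * dY)), ?_⟩
          linear_combination (-(m : ℤ)) * hrel -
            ((r : ℤ) * γ + ε) * c χ₀ * hkey - ((r : ℤ) * γ + ε) * (m : ℤ) * dY * hone0
        have hle' := Int.le_of_dvd (by omega) hdvd
        have h2 : 2 * (m : ℤ) ≤ (r : ℤ) * m := mul_le_mul_of_nonneg_right hr2 (by omega)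
        rw [hqz] at hdd
        omega
    by_cases hm3 : 3 ≤ m
    · by_cases hsm : ∑ χ ∈ Z, c χ ^ 2 ≤ 1
      · exact hsmall hsm
      refine hfalse 1 ((m : ℤ) - 2) one_pos ?_ fun χ hχ h1 => ?_
      · rw [hqp']; nlinarith
      rcases hcase χ hχ h1 with hZ' | ⟨s, rfl⟩
      · obtain ⟨hχB, -, hμ'⟩ := hZmem χ hZ'
        obtain ⟨-, hR, hdd, -⟩ := hconst χ hχ h1 (c χ) (hbc χ hχB hμ')
        obtain ⟨hlo, -⟩ := abs_le_sub_two (c := c χ) (m := (m : ℤ)) (by omega)
          (Or.inl (by have := hZle χ hZ'; linarith))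
        refine ⟨_, hR, ?_⟩
        rw [hqp'] at hdd
        nlinarith [mul_le_mul_of_nonneg_left hdd (show (0 : ℤ) ≤ (m : ℤ) - 2 by omega)]
      · obtain ⟨-, hR, hdd, ha1, ha2⟩ := hexc s
        refine ⟨_, hR, ?_⟩
        rw [if_neg (hnk s), hprm, one_mul]
        rcases exc_arith (r := (r : ℤ)) (m := (m : ℤ)) (γ := γ) (ε := ε) (a := (a (μ s) : ℤ))
            (d := d (μ s)) (R := -γ * ((r : ℤ) * m) - ε * m) hr2 (by omega) hε (Int.natCast_nonneg _)
            ha1 ha2 (by linarith) hdd (hdpos _) rfl with h | h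
        · linarith
        · omega
    · refine hsmall ?_
      omega
  · -- larger cyclic Sylow subgroups
    have hqp2 : (p : ℤ) * p ≤ q := by exact_mod_cast hqp'
    have hr_big : (p : ℤ) + 1 ≤ r := by
      by_contra hlt
      have h : (r : ℤ) * m ≤ (p : ℤ) * ((p : ℤ) - 1) :=
        mul_le_mul (by omega) hmp' (by omega) (by omega)
      nlinarith
    have hγ : γ = 0 := by
      by_contra h0
      have hsq : 1 ≤ γ ^ 2 := lt_of_le_of_ne (sq_nonneg γ) (Ne.symm (pow_ne_zero 2 h0))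
      have hεγ : -(γ ^ 2) ≤ ε * γ := by
        rcases hε with rfl | rfl
        · have := Int.le_self_sq (-γ)
          rw [neg_sq] at this
          linarith
        · have := Int.le_self_sq γ
          linarith
      have h3 := mul_le_mul_of_nonneg_left hsq (show (0 : ℤ) ≤ (r : ℤ) - 2 by omega)
      linarith
    obtain ⟨t₀, ht₀⟩ := hkerE (by
      rw [← hqdef]
      nlinarith)
    have ha1 : ∀ s, 1 ≤ (a (μ s) : ℤ) := by
      intro s
      rw [haeq s t₀]
      obtain ⟨hv, -, hdd, h1, h2⟩ := hexc t₀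
      by_contra hlt
      have h0 : (a (μ t₀) : ℤ) = 0 := by omega
      have hε1 : ε = 1 := by omega
      refine hfaith _ (hμB t₀) (hμone t₀) ?_
      rw [hv x hx1, hd, hdd, h0, hγ, hε1, hkerx t₀ ht₀]
      push_cast
      ring
    refine hfalse 3 (2 * ((m : ℤ) - 1)) (by norm_num) ?_ fun χ hχ h1 => ?_
    · nlinarith
    rcases hcase χ hχ h1 with hZ' | ⟨s, rfl⟩
    · obtain ⟨hχB, -, hμ'⟩ := hZmem χ hZ'
      obtain ⟨-, hR, hdd, -⟩ := hconst χ hχ h1 (c χ) (hbc χ hχB hμ')
      have hc2 : c χ ^ 2 ≤ (m : ℤ) - 1 := by have := hZle χ hZ'; linarith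
      have hcl : -((m : ℤ) - 1) ≤ c χ := by
        by_contra hlt
        nlinarith [mul_le_mul (show (m : ℤ) ≤ -c χ by omega) (show (m : ℤ) ≤ -c χ by omega)
          (by omega) (by omega)]
      refine ⟨_, hR, ?_⟩
      have h3 : 4 * ((p : ℤ) - 1) ≤ d χ := by nlinarith
      nlinarith [mul_le_mul_of_nonneg_left h3 (show (0 : ℤ) ≤ (m : ℤ) - 1 by omega)]
    · obtain ⟨-, hR, hdd, -, -⟩ := hexc s
      refine ⟨_, hR, ?_⟩
      rw [hγ] at hdd ⊢
      have hq' : (q : ℤ) - m ≤ d (μ s) := by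
        rw [hdd, hqz]
        have h := mul_le_mul_of_nonneg_left (ha1 s) (show (0 : ℤ) ≤ (r : ℤ) * m + 1 by positivity)
        rcases hε with rfl | rfl <;> linarith
      have hd' : (p : ℤ) * ((p : ℤ) - 1) ≤ d (μ s) := by linarith
      have hp0 : (3 : ℤ) ≤ p := by exact_mod_cast hp3
      have hmnn : (0 : ℤ) ≤ m := by omega
      have hR' : ε * m * (if ker s then (p : ℤ) - 1 else -1) ≤ (m : ℤ) * ((p : ℤ) - 1) := by
        have h0 : (0 : ℤ) ≤ (m : ℤ) * ((p : ℤ) - 2) := mul_nonneg hmnn (by omega)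
        split_ifs <;> rcases hε with rfl | rfl <;> linarith
      have e1 := mul_le_mul_of_nonneg_left hd' (show (0 : ℤ) ≤ 2 * ((m : ℤ) - 1) by omega)
      have e2 : (3 : ℤ) * m ≤ 2 * ((m : ℤ) - 1) * p := by
        have := mul_le_mul_of_nonneg_left hp0 (show (0 : ℤ) ≤ (m : ℤ) - 1 by omega)
        linarith
      have e3 := mul_le_mul_of_nonneg_right e2 (show (0 : ℤ) ≤ (p : ℤ) - 1 by omega)
      linarith

end Cfsg.Agent.Lib.PairSolvable
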