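import Cfsg.Agent.Lib.PairSolvable.Cyclic
import Cfsg.Agent.Lib.PairSolvable.Basic
import Cfsg.Agent.Lib.Block.Orth
import Cfsg.Agent.Lib.Block.PrincipalSolvable
import Cfsg.Agent.Lib.CharKernel

/-!
# Orthogonality in the principal block along a cyclic Sylow subgroup
-/

set_option autoImplicit false
set_option linter.unusedSectionVars false
set_option linter.style.haveILetI false

namespace Cfsg.Agent.Lib.PairSolvable

open Cfsg Cfsg.Agent.Lib Cfsg.Agent.Lib.Block
open scoped ComplexConjugate

universe u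

variable {p : ℕ} [Fact p.Prime] {M : Ideal AlgInt} [M.IsPrime]

open scoped Classical in
/-- The principal block of a group with a normal `p`-complement at regular elements. -/
theorem sum_principal_complement {C : Type u} [Group C] [Finite C] (hM : IsPModular p M)
    {K : Subgroup C} [K.Normal] (hK : ¬ p ∣ Nat.card K) {a : ℕ} (hKi : K.index = p ^ a)
    {y₁ y₂ : C} (h₁ : ¬ p ∣ orderOf y₁) (h₂ : ¬ p ∣ orderOf y₂) :
    ∑ φ : IrrCharacter C, (if φ ∈ principalBlock M C then
      (φ : C → ℂ) y₁ * conj ((φ : C → ℂ) y₂) else 0) = ((p ^ a : ℕ) : ℂ) := by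
  have hp : p.Prime := Fact.out
  have hsolv : IsPSolvable p C := by
    refine HallHigman.isPSolvable_of_quotient K (Or.inr ?_) (isPSolvable_of_card (Or.inl ⟨a, ?_⟩))
    · exact Nat.Coprime.symm (hp.coprime_iff_not_dvd.2 hK)
    · rw [← Subgroup.index_eq_card, hKi]
  have hmem : ∀ y : C, ¬ p ∣ orderOf y → y ∈ K := by
    intro y hy
    rw [← QuotientGroup.eq_one_iff (N := K), ← orderOf_eq_one_iff]
    refine Nat.eq_one_of_dvd_coprimes (k := orderOf (y : C ⧸ K))
      (a := orderOf y) (b := p ^ a) ?_ (orderOf_map_dvd (QuotientGroup.mk' K) y) ?_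
    · exact Nat.Coprime.pow_right _ (hp.coprime_iff_not_dvd.2 hy).symm
    · rw [← hKi, Subgroup.index_eq_card]
      exact orderOf_dvd_natCard _
  have hcore : pPrimeCore p C = K := le_antisymm (fun y hy => hmem y fun h =>
      Hall.not_dvd_card_pPrimeCore hp (h.trans (by
        rw [← Subgroup.orderOf_mk _ hy]; exact orderOf_dvd_natCard _)))
    (Hall.le_pPrimeCore (Nat.Coprime.symm (hp.coprime_iff_not_dvd.2 hK)))
  have h := CharKernel.sum_trivialOn_degree_mul (N := K) (1 : C)
  rw [if_pos K.one_mem, hKi] at h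
  rw [← h, Finset.sum_filter]
  refine Finset.sum_congr rfl fun φ _ => ?_
  simp only [mem_principalBlock_iff_trivial hM hsolv φ, hcore]
  split_ifs with htr
  · rw [htr _ (hmem _ h₁), htr _ (hmem _ h₂),
      Char.apply_one_eq_charDegree (Char.isCharacter_of_isIrr φ.2), Complex.conj_natCast]
  · rfl

variable {G : Type u} [Group G] [Finite G]

open scoped Classical in
/-- Different sections are orthogonal in the principal block. -/
theorem sum_principal_ne (hM : IsPModular p M) {u : G} (hu : IsPElem p u) {v : G}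
    (hne : ∀ w : Subgroup.centralizer ({u} : Set G), ¬ p ∣ orderOf w → ¬ IsConj (u * (w : G)) v) :
    ∑ χ : IrrCharacter G, (if χ ∈ principalBlock M G then
      (χ : G → ℂ) u * conj ((χ : G → ℂ) v) else 0) = 0 := by
  haveI := Fintype.ofFinite G
  haveI := Fintype.ofFinite (Subgroup.centralizer ({u} : Set G))
  set F : Subgroup.centralizer ({u} : Set G) → ℂ := fun w => ∑ χ : IrrCharacter G,
    (χ : G → ℂ) (u * (w : G)) * conj ((χ : G → ℂ) v) with hFdef
  have hF : IsClassFunction _ F := fun w c => Finset.sum_congr rfl fun χ _ =>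
    congrArg (· * _) (isClassFunction_translate (Char.isClassFunction_of_isIrr χ.2) u w c)
  have hreg : ∀ w, ¬ p ∣ orderOf w → F w = 0 := fun w hw => by
    simp only [hFdef, CharTools.sum_irr_mul_conj', if_neg (hne w hw)]
  have hB := isPBlock_principalBlock (M := M) (G := G)
  have hterm : ∀ χ : IrrCharacter G,
      (if χ ∈ principalBlock M G then (χ : G → ℂ) u * conj ((χ : G → ℂ) v) else 0) =
      ∑ b ∈ (blocks M (Subgroup.centralizer ({u} : Set G))).filter
          (fun b => IsInducedBlock M (Subgroup.centralizer ({u} : Set G)) b (principalBlock M G)),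
        ∑ k : Subgroup.centralizer ({u} : Set G), blockCoeff b k *
          ((χ : G → ℂ) (u * ((k * 1 : Subgroup.centralizer ({u} : Set G)) : G)) *
            conj ((χ : G → ℂ) v)) := by
    intro χ
    have h1 : ¬ p ∣ orderOf (1 : Subgroup.centralizer ({u} : Set G)) := regular_one
    have e : (if χ ∈ principalBlock M G then (χ : G → ℂ) u * conj ((χ : G → ℂ) v) else 0) =
        (if χ ∈ principalBlock M G then
          (χ : G → ℂ) (u * ((1 : Subgroup.centralizer ({u} : Set G)) : G)) else 0) *
          conj ((χ : G → ℂ) v) := by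
      rw [OneMemClass.coe_one, mul_one]
      split_ifs <;> simp
    rw [e, ← sum_induced_blockPart hM hu _ hB χ h1, Finset.sum_mul]
    refine Finset.sum_congr rfl fun b _ => ?_
    rw [blockPart_eq_sum b (isClassFunction_translate (Char.isClassFunction_of_isIrr χ.2) u),
      Finset.sum_mul]
    exact Finset.sum_congr rfl fun k _ => by ring
  rw [Finset.sum_congr rfl fun χ _ => hterm χ, Finset.sum_comm]
  refine Finset.sum_eq_zero fun b hb => ?_
  rw [Finset.sum_comm]
  simp only [← Finset.mul_sum]
  show ∑ k, blockCoeff b k * F (k * 1) = _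
  rw [sum_blockCoeff_mul_eq_pair]
  exact pair_eq_zero_of_vanish_regular hM (isIdempotentElem_eIdem b)
    (intR_eIdem (mem_blocks.1 (Finset.mem_filter.1 hb).1)) regular_one
    (isClassCoeff_eIdem b _) hF hreg

variable {P : Sylow p G}

open scoped Classical in
/-- Characters of the principal block are constant on sections. -/
theorem apply_section (hM : IsPModular p M) (hP : IsCyclic (P : Subgroup G)) {u : G}
    (hu : u ∈ (P : Subgroup G)) (hu1 : u ≠ 1) {y : G} (hy : Commute u y) (hyr : ¬ p ∣ orderOf y)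
    {χ : IrrCharacter G} (hχ : χ ∈ principalBlock M G) :
    (χ : G → ℂ) (u * y) = (χ : G → ℂ) u := by
  obtain ⟨K, hKn, hKc, hKi⟩ := exists_complement_centralizer hP hu hu1
  obtain ⟨a, ha⟩ := IsPGroup.iff_card.1 P.2
  haveI := hKn
  haveI := Fintype.ofFinite (Subgroup.centralizer ({u} : Set G))
  have hup := isPElem_of_mem P.2 hu
  set y' : Subgroup.centralizer ({u} : Set G) :=
    ⟨y, Subgroup.mem_centralizer_singleton_iff.2 hy.eq.symm⟩ with hy'
  have hy'r : ¬ p ∣ orderOf y' := by rw [hy', Subgroup.orderOf_mk]; exact hyr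
  have h1 : ¬ p ∣ orderOf (1 : Subgroup.centralizer ({u} : Set G)) := regular_one
  have key : ∀ {w₁ w₂ : Subgroup.centralizer ({u} : Set G)}, ¬ p ∣ orderOf w₁ → ¬ p ∣ orderOf w₂ →
      ∑ χ : IrrCharacter G, (if χ ∈ principalBlock M G then
        (χ : G → ℂ) (u * (w₁ : G)) * conj ((χ : G → ℂ) (u * (w₂ : G))) else 0) = ((p ^ a : ℕ) : ℂ) :=
    fun h h' => (sum_principal_section_eq hM hup h h').trans
      (sum_principal_complement hM hKc (hKi.trans ha) h h')
  have hsum : ∑ χ : IrrCharacter G, (if χ ∈ principalBlock M G then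
      (Complex.normSq ((χ : G → ℂ) (u * y) - (χ : G → ℂ) u) : ℂ) else 0) = 0 := by
    have h11 := key h1 h1
    have hyy := key hy'r hy'r
    have h1y := key h1 hy'r
    have hy1 := key hy'r h1
    simp only [OneMemClass.coe_one, mul_one, hy'] at h11 hyy h1y hy1
    have hsplit : ∀ χ : IrrCharacter G, (if χ ∈ principalBlock M G then
        (Complex.normSq ((χ : G → ℂ) (u * y) - (χ : G → ℂ) u) : ℂ) else 0) =
        (if χ ∈ principalBlock M G then (χ : G → ℂ) (u * y) * conj ((χ : G → ℂ) (u * y)) else 0) -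
        (if χ ∈ principalBlock M G then (χ : G → ℂ) (u * y) * conj ((χ : G → ℂ) u) else 0) -
        (if χ ∈ principalBlock M G then (χ : G → ℂ) u * conj ((χ : G → ℂ) (u * y)) else 0) +
        (if χ ∈ principalBlock M G then (χ : G → ℂ) u * conj ((χ : G → ℂ) u) else 0) := fun χ => by
      split_ifs
      · rw [← Complex.mul_conj, map_sub]; ring
      · ring
    rw [Finset.sum_congr rfl fun χ _ => hsplit χ, Finset.sum_add_distrib, Finset.sum_sub_distrib,
      Finset.sum_sub_distrib, hyy, hy1, h1y, h11]
    ring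
  have hcast : ∑ χ : IrrCharacter G, (if χ ∈ principalBlock M G then
      Complex.normSq ((χ : G → ℂ) (u * y) - (χ : G → ℂ) u) else 0) = 0 := by
    apply Complex.ofReal_injective
    rw [Complex.ofReal_sum, Complex.ofReal_zero, ← hsum]
    exact Finset.sum_congr rfl fun χ _ => by split_ifs <;> simp
  have := (Finset.sum_eq_zero_iff_of_nonneg fun ψ _ => by
    split_ifs
    · exact Complex.normSq_nonneg _
    · exact le_rfl).1 hcast χ (Finset.mem_univ χ)
  rw [if_pos hχ] at this
  exact sub_eq_zero.1 (Complex.normSq_eq_zero.1 this)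

open scoped Classical in
/-- The orthogonality relation on the Sylow subgroup. -/
theorem sum_principal_sylow (hM : IsPModular p M) (hP : IsCyclic (P : Subgroup G)) {u : G}
    (hu : u ∈ (P : Subgroup G)) (hu1 : u ≠ 1) {v : G} (hv : v ∈ (P : Subgroup G)) :
    ∑ χ : IrrCharacter G, (if χ ∈ principalBlock M G then
      (χ : G → ℂ) u * conj ((χ : G → ℂ) v) else 0) =
      if IsConj u v then (Nat.card (P : Subgroup G) : ℂ) else 0 := by
  obtain ⟨a, ha⟩ := IsPGroup.iff_card.1 P.2
  have hup := isPElem_of_mem P.2 hu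
  split_ifs with hc
  · obtain ⟨K, hKn, hKc, hKi⟩ := exists_complement_centralizer hP hu hu1
    haveI := hKn
    haveI := Fintype.ofFinite (Subgroup.centralizer ({u} : Set G))
    obtain ⟨c, rfl⟩ := isConj_iff.1 hc
    have h1 : ¬ p ∣ orderOf (1 : Subgroup.centralizer ({u} : Set G)) := regular_one
    have h := (sum_principal_section_eq hM hup h1 h1).trans
      (sum_principal_complement hM hKc (hKi.trans ha) h1 h1)
    rw [ha, ← h]
    refine Finset.sum_congr rfl fun χ _ => ?_
    rw [OneMemClass.coe_one, mul_one, CharTools.conj_apply_eq χ.2]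
  · refine sum_principal_ne hM hup fun w hw h => hc ?_
    have hcm : Commute u (w : G) := (Subgroup.mem_centralizer_singleton_iff.1 w.2).symm
    have hp1 := isPPart_mul hup (show ¬ p ∣ orderOf (w : G) by rwa [Subgroup.orderOf_coe]) hcm
    obtain ⟨c, hc'⟩ := isConj_iff.1 h
    have h2 := IsPPart.conj hp1 c
    rw [hc'] at h2
    exact isConj_iff.2 ⟨c, IsPPart.unique h2 (isPPart_self (isPElem_of_mem P.2 hv))⟩

end Cfsg.Agent.Lib.PairSolvable
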